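import Mathlib

/-!
Eilenberg–Watts for functors between modules over two rings.
-/

set_option autoImplicit false
set_option linter.style.haveILetI false
universe u

open CategoryTheory CategoryTheory.Limits TensorProduct

namespace Groth.Agent.WattsLib.Bimod

variable {A B : Type u} [CommRing A] [CommRing B] (T : ModuleCat.{u} A ⥤ ModuleCat.{u} B) [T.Additive]

/-- the value on the ring -/
def Val : Type u := T.obj (ModuleCat.of A A)

noncomputable instance : AddCommGroup (Val T) := inferInstanceAs (AddCommGroup (T.obj (ModuleCat.of A A)))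
noncomputable instance : Module B (Val T) := inferInstanceAs (Module B (T.obj (ModuleCat.of A A)))

/-- multiplication by a scalar on the ring, as a morphism -/
noncomputable abbrev mu (a : A) : ModuleCat.of A A ⟶ ModuleCat.of A A := a • 𝟙 _

/-- functoriality gives the action of `A` -/
noncomputable def act : A →+* Module.End B (Val T) where
  toFun a := (T.map (mu a)).hom
  map_one' := by
    show (T.map (mu 1)).hom = LinearMap.id
    rw [mu, one_smul, T.map_id]
    rfl
  map_mul' a b := by
    show (T.map (mu (a * b))).hom = (T.map (mu a)).hom ∘ₗ (T.map (mu b)).hom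
    rw [← ModuleCat.hom_comp, ← T.map_comp]
    congr 2
    apply ModuleCat.hom_ext
    refine LinearMap.ext fun x => ?_
    simp [mu, mul_assoc]
  map_zero' := by
    show (T.map (mu 0)).hom = 0
    rw [mu, zero_smul, T.map_zero]
    rfl
  map_add' a b := by
    show (T.map (mu (a + b))).hom = (T.map (mu a)).hom + (T.map (mu b)).hom
    rw [mu, add_smul, T.map_add]
    rfl

noncomputable instance : Module A (Val T) := Module.compHom _ (act T)

theorem smul_def (a : A) (x : Val T) : a • x = (T.map (mu a)).hom x := rfl

instance : SMulCommClass A B (Val T) := ⟨fun a b x => map_smul (act T a) b x⟩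

/-- the map from the ring given by an element -/
noncomputable abbrev pt {M : ModuleCat.{u} A} (m : M) : ModuleCat.of A A ⟶ M :=
  ModuleCat.ofHom (LinearMap.toSpanSingleton A M m)

theorem pt_comp {M N : ModuleCat.{u} A} (f : M ⟶ N) (m : M) : pt m ≫ f = pt (f.hom m) := by
  apply ModuleCat.hom_ext
  refine LinearMap.ext fun a => ?_
  simp [pt]

theorem pt_smul {M : ModuleCat.{u} A} (a : A) (m : M) : pt (a • m) = mu a ≫ pt m := by
  apply ModuleCat.hom_ext
  refine LinearMap.ext fun x => ?_
  simp [pt, mu, mul_smul, smul_comm x a m]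

theorem pt_add {M : ModuleCat.{u} A} (m n : M) : pt (m + n) = pt m + pt n := by
  apply ModuleCat.hom_ext
  refine LinearMap.ext fun x => ?_
  simp [pt]

theorem pt_zero {M : ModuleCat.{u} A} : pt (0 : M) = 0 := by
  apply ModuleCat.hom_ext
  refine LinearMap.ext fun x => ?_
  simp [pt]

/-- the comparison map -/
noncomputable def eta (M : ModuleCat.{u} A) : Val T ⊗[A] M →ₗ[B] T.obj M :=
  let f : Val T →+ M →+ T.obj M := AddMonoidHom.mk'
    (fun x => AddMonoidHom.mk' (fun m => (T.map (pt m)).hom (show T.obj (ModuleCat.of A A) from x))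
      fun m n => by
        show (T.map (pt (m + n))).hom _ = _
        rw [pt_add, T.map_add]
        rfl)
    fun x y => AddMonoidHom.ext fun m => map_add (T.map (pt m)).hom _ _
  let g : Val T ⊗[A] M →+ T.obj M := TensorProduct.liftAddHom f fun a x m => by
    show (T.map (pt m)).hom ((T.map (mu a)).hom x) = (T.map (pt (a • m))).hom x
    rw [pt_smul, T.map_comp]
    rfl
  { g with
    map_smul' := fun b z => by
      show g (b • z) = b • g z
      induction z using TensorProduct.induction_on with
      | zero => simp
      | tmul x m => exact map_smul (T.map (pt m)).hom b _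
      | add x y hx hy => rw [smul_add, map_add, map_add, smul_add, hx, hy] }

theorem eta_tmul {M : ModuleCat.{u} A} (t : Val T) (m : M) :
    eta T M (t ⊗ₜ m) = (T.map (pt m)).hom t := rfl

theorem eta_natural {M N : ModuleCat.{u} A} (f : M ⟶ N) (z : Val T ⊗[A] M) :
    eta T N (f.hom.lTensor _ z) = (T.map f).hom (eta T M z) := by
  induction z using TensorProduct.induction_on with
  | zero => simp
  | add x y hx hy => simp only [map_add, hx, hy]
  | tmul t m => rw [LinearMap.lTensor_tmul, eta_tmul, eta_tmul, ← pt_comp, T.map_comp]; rfl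

section Basis

variable [∀ J : Type u, PreservesColimitsOfShape (Discrete J) T]
variable {L : ModuleCat.{u} A} {ι : Type u} (b : Module.Basis ι A L)

/-- a basis is a coproduct of copies of the ring -/
noncomputable def basisCofan : IsColimit (Cofan.mk L (fun i : ι => pt (b i))) :=
  mkCofanColimit _ (fun s => ModuleCat.ofHom (b.constr A fun i => (s.inj i).hom 1))
    (fun s i => by
      apply ModuleCat.hom_ext
      ext
      simp [pt])
    (fun s m hm => by
      apply ModuleCat.hom_ext
      refine b.ext fun i => ?_
      rw [ModuleCat.hom_ofHom, Module.Basis.constr_basis, ← hm i]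
      simp [pt])

include b in
theorem eta_bijective_of_basis : Function.Bijective (eta T L) := by
  let hc := isColimitCofanMkObjOfIsColimit T _ _ (basisCofan b)
  let g : T.obj L ⟶ ModuleCat.of B (Val T ⊗[A] L) :=
    hc.desc (Cofan.mk _ fun i => ModuleCat.ofHom
      ({ toFun := fun x => (show Val T from x) ⊗ₜ[A] b i
         map_add' := fun x y => TensorProduct.add_tmul (show Val T from x) y (b i)
         map_smul' := fun r x => rfl } : T.obj (ModuleCat.of A A) →ₗ[B] Val T ⊗[A] L))
  have hg' : ∀ i (t : Val T), g.hom ((T.map (pt (b i))).hom t) = t ⊗ₜ b i := fun i t =>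
    LinearMap.congr_fun (congrArg ModuleCat.Hom.hom (hc.fac _ ⟨i⟩)) t
  have h1 : g ≫ ModuleCat.ofHom (eta T L) = 𝟙 _ := by
    refine hc.hom_ext fun ⟨i⟩ => ?_
    apply ModuleCat.hom_ext
    apply LinearMap.ext
    intro t
    show eta T L (g.hom ((T.map (pt (b i))).hom t)) = (T.map (pt (b i))).hom t
    exact (congrArg (eta T L) (hg' i t)).trans (eta_tmul T t (b i))
  have h2 : ∀ z, g.hom (eta T L z) = z := by
    intro z
    induction z using TensorProduct.induction_on with
    | zero => simp
    | add x y hx hy => simp only [map_add, hx, hy]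
    | tmul t m =>
      induction b.mem_span m using Submodule.span_induction generalizing t with
      | mem x hx => obtain ⟨i, rfl⟩ := hx; rw [eta_tmul, hg']
      | zero => simp
      | add x y _ _ hx hy => simp only [tmul_add, map_add, hx, hy]
      | smul a x _ hx => rw [← TensorProduct.smul_tmul]; exact hx (a • t)
  exact ⟨Function.LeftInverse.injective h2, fun y => ⟨g.hom y, congr($h1 y)⟩⟩

theorem eta_bijective_of_free (L : ModuleCat.{u} A) [Module.Free A L] : Function.Bijective (eta T L) :=
  eta_bijective_of_basis T (Module.Free.chooseBasis A L)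

/-- a right exact functor preserving sums is tensoring with its value on the ring -/
theorem eta_bijective [PreservesFiniteColimits T] (M : ModuleCat.{u} A) : Function.Bijective (eta T M) := by
  have hre := ((Functor.preservesFiniteColimits_tfae T).out 3 0 :).mp ‹_›
  let F₀ := ModuleCat.of A (M →₀ A)
  let π : F₀ ⟶ M := ModuleCat.ofHom (Finsupp.linearCombination A (id : M → M))
  have hπ : Function.Surjective π.hom := Finsupp.linearCombination_id_surjective A M
  let K := ModuleCat.of A (LinearMap.ker π.hom)
  let S : ShortComplex (ModuleCat.{u} A) := ShortComplex.mk (X₁ := K) (ModuleCat.ofHom (LinearMap.ker π.hom).subtype) π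
    (by apply ModuleCat.hom_ext; exact LinearMap.ext fun x => x.2)
  have hS : S.ShortExact := by
    haveI : Mono S.f := (ModuleCat.mono_iff_injective _).mpr (Submodule.injective_subtype _)
    haveI : Epi S.g := (ModuleCat.epi_iff_surjective _).mpr hπ
    refine ShortComplex.ShortExact.mk' ?_ inferInstance inferInstance
    rw [ShortComplex.moduleCat_exact_iff_range_eq_ker]
    exact Submodule.range_subtype _
  obtain ⟨hex, hepi⟩ := hre S hS
  have hTπ : Function.Surjective (T.map π).hom := (ModuleCat.epi_iff_surjective _).mp hepi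
  let F₁ := ModuleCat.of A (K →₀ A)
  let p : F₁ ⟶ K := ModuleCat.ofHom (Finsupp.linearCombination A (id : K → K))
  have hp : Function.Surjective p.hom := Finsupp.linearCombination_id_surjective A K
  let S' : ShortComplex (ModuleCat.{u} A) := ShortComplex.mk (X₁ := ModuleCat.of A (LinearMap.ker p.hom))
    (ModuleCat.ofHom (LinearMap.ker p.hom).subtype) p (by apply ModuleCat.hom_ext; exact LinearMap.ext fun x => x.2)
  have hTp : Function.Surjective (T.map p).hom := by
    haveI : Mono S'.f := (ModuleCat.mono_iff_injective _).mpr (Submodule.injective_subtype _)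
    haveI : Epi S'.g := (ModuleCat.epi_iff_surjective _).mpr hp
    refine (ModuleCat.epi_iff_surjective _).mp (hre S' (ShortComplex.ShortExact.mk' ?_ inferInstance inferInstance)).2
    rw [ShortComplex.moduleCat_exact_iff_range_eq_ker]
    exact Submodule.range_subtype _
  refine ⟨?_, fun y => ?_⟩
  · rw [injective_iff_map_eq_zero]
    intro w hw
    obtain ⟨v, rfl⟩ := LinearMap.lTensor_surjective _ hπ w
    rw [eta_natural] at hw
    obtain ⟨x, hx⟩ := (ShortComplex.moduleCat_exact_iff _).mp hex _ hw
    obtain ⟨x', rfl⟩ := hTp x
    obtain ⟨v₁, rfl⟩ := (eta_bijective_of_free T F₁).2 x'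
    have hv : eta T F₀ (((LinearMap.ker π.hom).subtype ∘ₗ p.hom).lTensor _ v₁) = eta T F₀ v := by
      rw [LinearMap.lTensor_comp, LinearMap.comp_apply]
      rw [← hx]
      show eta T F₀ ((ModuleCat.ofHom (X := K) (LinearMap.ker π.hom).subtype).hom.lTensor _ (p.hom.lTensor _ v₁)) = _
      rw [eta_natural, eta_natural]
      rfl
    rw [← (eta_bijective_of_free T F₀).1 hv, ← LinearMap.comp_apply, ← LinearMap.lTensor_comp,
      ← LinearMap.comp_assoc, LinearMap.comp_ker_subtype]
    simp
  · obtain ⟨x, rfl⟩ := hTπ y
    obtain ⟨v, rfl⟩ := (eta_bijective_of_free T F₀).2 x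
    exact ⟨π.hom.lTensor _ v, eta_natural T π v⟩

end Basis

theorem pt_one : pt (M := ModuleCat.of A A) (1 : A) = 𝟙 _ := by
  apply ModuleCat.hom_ext
  refine LinearMap.ext fun a => ?_
  simp [pt]

variable (S : ModuleCat.{u} A ⥤ ModuleCat.{u} B) [S.Additive]

variable {T} in
/-- a transformation is determined by its value on the ring -/
theorem natTrans_ext [∀ J : Type u, PreservesColimitsOfShape (Discrete J) T] [PreservesFiniteColimits T]
    {t t' : T ⟶ S} (h : t.app (ModuleCat.of A A) = t'.app (ModuleCat.of A A)) : t = t' := by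
  refine NatTrans.ext (funext fun M => ModuleCat.hom_ext (LinearMap.ext fun y => ?_))
  obtain ⟨z, rfl⟩ := (eta_bijective T M).2 y
  induction z using TensorProduct.induction_on with
  | zero => simp
  | add x y hx hy => simp only [map_add, hx, hy]
  | tmul x m =>
    rw [eta_tmul]
    have e1 := LinearMap.congr_fun (congrArg ModuleCat.Hom.hom (t.naturality (pt m))) x
    have e2 := LinearMap.congr_fun (congrArg ModuleCat.Hom.hom (t'.naturality (pt m))) x
    rw [h] at e1
    exact e1.trans e2.symm

/-- an equivariant map on the value at the ring extends to a transformation -/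
theorem exists_natTrans [∀ J : Type u, PreservesColimitsOfShape (Discrete J) T] [PreservesFiniteColimits T]
    (φ : T.obj (ModuleCat.of A A) ⟶ S.obj (ModuleCat.of A A))
    (hφ : ∀ a : A, T.map (mu a) ≫ φ = φ ≫ S.map (mu a)) :
    ∃ t : T ⟶ S, t.app (ModuleCat.of A A) = φ := by
  let φl : Val T →ₗ[A] Val S :=
    { toFun := fun x => φ.hom x
      map_add' := fun x y => map_add φ.hom _ _
      map_smul' := fun a x => LinearMap.congr_fun (congrArg ModuleCat.Hom.hom (hφ a)) x }
  let e : ∀ M : ModuleCat.{u} A, Val T ⊗[A] M ≃ₗ[B] T.obj M := fun M => LinearEquiv.ofBijective (eta T M) (eta_bijective T M)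
  let c : ∀ M : ModuleCat.{u} A, Val T ⊗[A] M →ₗ[B] S.obj M := fun M =>
    { toFun := fun z => eta S M (φl.rTensor M z)
      map_add' := fun x y => by rw [map_add, map_add]
      map_smul' := fun r z => by
        rw [RingHom.id_apply, ← map_smul]
        refine congrArg (eta S M) ?_
        induction z using TensorProduct.induction_on with
        | zero => simp
        | tmul x m =>
          rw [TensorProduct.smul_tmul', LinearMap.rTensor_tmul, LinearMap.rTensor_tmul,
            TensorProduct.smul_tmul']
          exact congrArg (· ⊗ₜ[A] m) (map_smul φ.hom r x)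
        | add x y hx hy => simp only [smul_add, map_add, hx, hy] }
  refine ⟨{ app := fun M => ModuleCat.ofHom ((c M).comp (e M).symm.toLinearMap)
            naturality := fun M N f => ?_ }, ?_⟩
  · apply ModuleCat.hom_ext
    refine LinearMap.ext fun y => ?_
    obtain ⟨z, rfl⟩ := (e M).surjective y
    show c N ((e N).symm ((T.map f).hom (e M z))) = (S.map f).hom (c M ((e M).symm (e M z)))
    have : (T.map f).hom (e M z) = e N (f.hom.lTensor _ z) := (eta_natural T f z).symm
    rw [this, LinearEquiv.symm_apply_apply, LinearEquiv.symm_apply_apply]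
    show eta S N (φl.rTensor N (f.hom.lTensor _ z)) = _
    rw [← LinearMap.comp_apply, LinearMap.rTensor_comp_lTensor, ← LinearMap.lTensor_comp_rTensor,
      LinearMap.comp_apply, eta_natural]
    rfl
  · apply ModuleCat.hom_ext
    refine LinearMap.ext fun y => ?_
    show c _ ((e (ModuleCat.of A A)).symm y) = φ.hom y
    have hy : e (ModuleCat.of A A) ((show Val T from y) ⊗ₜ (1 : A)) = y := by
      show eta T _ _ = y
      rw [eta_tmul, pt_one, T.map_id]
      rfl
    conv_lhs => rw [← hy, LinearEquiv.symm_apply_apply]
    show eta S (ModuleCat.of A A) (φl (show Val T from y) ⊗ₜ (1 : A)) = _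
    rw [eta_tmul, pt_one, S.map_id]
    rfl

end Groth.Agent.WattsLib.Bimod
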