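import Mathlib

/-!
Linear functors commuting with filtered colimits commute with localisation.
-/

set_option autoImplicit false
set_option linter.style.haveILetI false
universe u

open CategoryTheory CategoryTheory.Limits

namespace Groth.Agent.WattsLib

variable {A : Type u} [CommRing A] (S : Submonoid A)

/-- The category of denominators. -/
structure Den where
  /-- the denominator -/
  val : S

instance : SmallCategory (Den S) where
  Hom a b := {t : S // a.val * t = b.val}
  id a := ⟨1, mul_one _⟩
  comp {a b c} f g := ⟨f.1 * g.1, by rw [← mul_assoc, f.2, g.2]⟩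
  id_comp f := Subtype.ext (one_mul _)
  comp_id f := Subtype.ext (mul_one _)
  assoc f g h := Subtype.ext (mul_assoc _ _ _)

instance : IsFiltered (Den S) where
  cocone_objs a b := ⟨⟨a.val * b.val⟩, ⟨b.val, rfl⟩, ⟨a.val, mul_comm _ _⟩, trivial⟩
  cocone_maps {a b} f g := ⟨⟨b.val * a.val⟩, ⟨a.val, rfl⟩, Subtype.ext (by
    show f.1 * a.val = g.1 * a.val
    rw [mul_comm f.1, mul_comm g.1, f.2, g.2])⟩
  nonempty := ⟨⟨1⟩⟩

variable (M : ModuleCat.{u} A)

/-- The diagram of multiplications. -/
noncomputable def mulDiagram : Den S ⥤ ModuleCat.{u} A where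
  obj _ := M
  map f := ((f.1 : S) : A) • 𝟙 M
  map_id a := by
    show ((1 : S) : A) • 𝟙 M = _
    simp
  map_comp {a b c} f g := by
    show ((f.1 * g.1 : S) : A) • 𝟙 M = _
    simp [smul_smul, mul_comm]

/-- The localisation as a cocone. -/
noncomputable def locCocone : Cocone (mulDiagram S M) where
  pt := ModuleCat.of A (LocalizedModule S M)
  ι :=
    { app := fun a => ModuleCat.ofHom
        { toFun := fun x : M => LocalizedModule.mk x a.val
          map_add' := fun x y => by
            rw [LocalizedModule.mk_add_mk, ← smul_add, LocalizedModule.mk_cancel_common_left a.val]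
          map_smul' := fun r x => (LocalizedModule.smul'_mk ..).symm }
      naturality := fun a b f => by
        apply ModuleCat.hom_ext
        apply LinearMap.ext
        intro x
        show LocalizedModule.mk (((f.1 : S) : A) • x) b.val = LocalizedModule.mk x a.val
        exact (congrArg (LocalizedModule.mk (((f.1 : S) : A) • (x : M))) (show b.val = f.1 * a.val by
          rw [mul_comm]; exact f.2.symm)).trans (LocalizedModule.mk_cancel_common_left f.1 a.val (x : M)) }

theorem nonempty_isColimit_locCocone : Nonempty (IsColimit (locCocone S M)) := by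
  refine ⟨isColimitOfReflects (CategoryTheory.forget (ModuleCat.{u} A)) ?_⟩
  refine Types.FilteredColimit.isColimitOf' _ _ (fun z => ?_) (fun a x y h => ?_)
  · change LocalizedModule S M at z
    induction z using LocalizedModule.induction_on with
    | h x s => exact ⟨⟨s⟩, x, rfl⟩
  · change M at x y
    have h' : LocalizedModule.mk x a.val = LocalizedModule.mk y a.val := h
    obtain ⟨c, hc⟩ := LocalizedModule.mk_eq.mp h'
    refine ⟨⟨a.val * (c * a.val)⟩, ⟨c * a.val, rfl⟩, ?_⟩
    show ((c * a.val : S) : A) • x = ((c * a.val : S) : A) • y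
    rw [Submonoid.coe_mul, mul_smul, mul_smul]
    exact hc

variable (T : ModuleCat.{u} A ⥤ ModuleCat.{u} A) [T.Additive] [T.Linear A]

theorem isLocalizedModule_map (hT : ∀ (J : Type u) [SmallCategory J] [IsFiltered J], PreservesColimitsOfShape J T) :
    IsLocalizedModule S (T.map (ModuleCat.ofHom (LocalizedModule.mkLinearMap S M) :
      M ⟶ ModuleCat.of A (LocalizedModule S M))).hom := by
  haveI := hT (Den S)
  let hc := isColimitOfPreserves (CategoryTheory.forget (ModuleCat.{u} A))
    (isColimitOfPreserves T (nonempty_isColimit_locCocone S M).some)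
  have h1 : (locCocone S M).ι.app ⟨1⟩ =
      (ModuleCat.ofHom (LocalizedModule.mkLinearMap S M) : M ⟶ ModuleCat.of A (LocalizedModule S M)) := rfl
  have hw : ∀ (a : Den S), ((a.val : A) • (locCocone S M).ι.app a) =
      (ModuleCat.ofHom (LocalizedModule.mkLinearMap S M) : M ⟶ ModuleCat.of A (LocalizedModule S M)) := fun a => by
    rw [← h1, ← (locCocone S M).w (show (⟨1⟩ : Den S) ⟶ a from ⟨a.val, one_mul _⟩)]
    show _ = ((a.val : A) • 𝟙 M) ≫ (locCocone S M).ι.app a
    rw [Linear.smul_comp]
    simp
    rfl
  constructor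
  · intro s
    have hu : IsUnit (algebraMap A (Module.End A (LocalizedModule S M)) s) :=
      IsLocalizedModule.map_units (LocalizedModule.mkLinearMap S M) s
    rw [Module.End.isUnit_iff] at hu ⊢
    haveI : IsIso ((s : A) • 𝟙 (ModuleCat.of A (LocalizedModule S M))) :=
      (ConcreteCategory.isIso_iff_bijective _).mpr hu
    have h2 : IsIso (T.map ((s : A) • 𝟙 (ModuleCat.of A (LocalizedModule S M)))) := inferInstance
    rw [T.map_smul, T.map_id] at h2
    exact (ConcreteCategory.isIso_iff_bijective _).mp h2
  · intro y
    obtain ⟨a, x, hx⟩ := Types.jointly_surjective_of_isColimit hc y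
    refine ⟨(x, a.val), ?_⟩
    rw [← hx]
    show (a.val : A) • (T.map ((locCocone S M).ι.app a)).hom x = _
    rw [← hw a]
    erw [T.map_smul]
    rfl
  · intro x y h
    obtain ⟨b, f, g, hfg⟩ := (Types.FilteredColimit.isColimit_eq_iff _ hc (i := ⟨1⟩) (j := ⟨1⟩)
      (xi := x) (xj := y)).mp h
    obtain rfl : f = g := Subtype.ext (by
      have := f.2.trans g.2.symm
      simpa using this)
    refine ⟨f.1, ?_⟩
    have h3 : (T.map (((f.1 : S) : A) • 𝟙 M)).hom x = (T.map (((f.1 : S) : A) • 𝟙 M)).hom y := hfg
    rw [T.map_smul, T.map_id] at h3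
    exact h3

end Groth.Agent.WattsLib
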